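import Mathlib
import Cfsg.Prelude.Def_Transfer
import Cfsg.Agent.Lib.PGroup.Extraspecial

/-!
# Coordinates on an extraspecial group of order `p³` and exponent `p`
-/

set_option autoImplicit false
set_option linter.unusedSectionVars false
set_option linter.unusedVariables false
set_option linter.style.haveILetI false

namespace Cfsg.Agent.Lib.Ruiz.Coord

open Subgroup Matrix
open scoped commutatorElement MatrixGroups

open Cfsg.Agent.Lib.PGroup.Extraspecial

section Ep

variable {G : Type*} [Group G] {p : ℕ} [hp : Fact p.Prime]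

/-- Powers with exponents in `ZMod p`. -/
def ep (z : G) (c : ZMod p) : G := z ^ c.val

lemma pow_eq_pow_mod_of {z : G} (hz : z ^ p = 1) (n : ℕ) : z ^ (n % p) = z ^ n := by
  conv_rhs => rw [← Nat.mod_add_div n p, pow_add, pow_mul, hz, one_pow, mul_one]

lemma ep_natCast {z : G} (hz : z ^ p = 1) (n : ℕ) : ep z (n : ZMod p) = z ^ n := by
  rw [ep, ZMod.val_natCast, pow_eq_pow_mod_of hz]

lemma ep_add {z : G} (hz : z ^ p = 1) (a b : ZMod p) : ep z (a + b) = ep z a * ep z b := by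
  rw [ep, ZMod.val_add, pow_eq_pow_mod_of hz, pow_add, ep, ep]

@[simp] lemma ep_zero (z : G) : ep z (0 : ZMod p) = 1 := by
  simp [ep]

lemma ep_one {z : G} (hz : z ^ p = 1) : ep z (1 : ZMod p) = z := by
  have := ep_natCast hz 1
  rwa [Nat.cast_one, pow_one] at this

lemma ep_pow_p {z : G} (hz : z ^ p = 1) (a : ZMod p) : (ep z a) ^ p = 1 := by
  rw [ep, ← pow_mul, mul_comm, pow_mul, hz, one_pow]

lemma ep_mul {z : G} (hz : z ^ p = 1) (a b : ZMod p) : ep z (a * b) = ep (ep z a) b := by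
  have h := ep_natCast (z := z) hz (a.val * b.val)
  have e : ((a.val * b.val : ℕ) : ZMod p) = a * b := by
    rw [Nat.cast_mul, ZMod.natCast_zmod_val, ZMod.natCast_zmod_val]
  rw [e] at h
  rw [h, pow_mul, ep, ep]

lemma ep_neg {z : G} (hz : z ^ p = 1) (a : ZMod p) : ep z (-a) = (ep z a)⁻¹ := by
  apply eq_inv_of_mul_eq_one_left
  rw [← ep_add hz, neg_add_cancel, ep_zero]

lemma ep_sub {z : G} (hz : z ^ p = 1) (a b : ZMod p) : ep z (a - b) = ep z a * (ep z b)⁻¹ := by
  rw [sub_eq_add_neg, ep_add hz, ep_neg hz]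

lemma ep_conj (t z : G) (a : ZMod p) : t * ep z a * t⁻¹ = ep (t * z * t⁻¹) a := by
  simp [ep, conj_pow]

lemma ep_map {H : Type*} [Group H] (f : G →* H) (z : G) (a : ZMod p) :
    f (ep z a) = ep (f z) a := by
  simp [ep]

lemma ep_of_commute {x y : G} (h : Commute x y) (a : ZMod p) :
    ep (x * y) a = ep x a * ep y a := by
  simp [ep, h.mul_pow]

lemma ep_eq_one_iff {z : G} (hz : z ^ p = 1) (h1 : z ≠ 1) {a : ZMod p} : ep z a = 1 ↔ a = 0 := by
  constructor
  · intro h
    by_contra ha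
    have h2 : orderOf z = p := orderOf_eq_prime hz h1
    have h3 : orderOf z ∣ a.val := orderOf_dvd_of_pow_eq_one h
    rw [h2] at h3
    have h4 := (ZMod.val_lt a)
    have h5 : a.val = 0 := Nat.eq_zero_of_dvd_of_lt h3 h4
    exact ha ((ZMod.val_eq_zero a).1 h5)
  · rintro rfl
    exact ep_zero z

lemma ep_injective {z : G} (hz : z ^ p = 1) (h1 : z ≠ 1) {a b : ZMod p} (h : ep z a = ep z b) :
    a = b := by
  have h2 : ep z (a - b) = 1 := by
    rw [ep_sub hz, h, mul_inv_cancel]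
  exact sub_eq_zero.1 ((ep_eq_one_iff hz h1).1 h2)

lemma ep_inv_back {z : G} (hz : z ^ p = 1) {a : ZMod p} (ha : a ≠ 0) : ep (ep z a) a⁻¹ = z := by
  rw [← ep_mul hz, mul_inv_cancel₀ ha, ep_one hz]

end Ep

section Structure

/-- The structure of an extraspecial group of order `p³` and exponent `p`. -/
structure Ext (Q : Type*) [Group Q] (p : ℕ) [Fact p.Prime] where
  pi : Q → Fin 2 → ZMod p
  pi_mul : ∀ x y, pi (x * y) = pi x + pi y
  pi_surj : Function.Surjective pi
  pi_eq_zero : ∀ x, pi x = 0 ↔ x ∈ center Q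
  z : Q
  z_ne : z ≠ 1
  z_mem : z ∈ center Q
  exp : ∀ x : Q, x ^ p = 1
  comm_eq : ∀ x y, ⁅x, y⁆ = ep z (pi x 0 * pi y 1 - pi x 1 * pi y 0)
  center_eq : ∀ c ∈ center Q, ∃ s : ZMod p, c = ep z s

variable {Q : Type*} [Group Q] {p : ℕ} [hp : Fact p.Prime]

lemma aux_add_equiv {A : Type*} [AddCommGroup A] [Module (ZMod p) A] [Finite A]
    (hc : Nat.card A = p ^ 2) : Nonempty (A ≃+ (Fin 2 → ZMod p)) := by
  haveI : Fintype A := Fintype.ofFinite A
  have h1 := Module.card_eq_pow_finrank (K := ZMod p) (V := A)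
  rw [← Nat.card_eq_fintype_card (α := A), hc, ZMod.card] at h1
  have h2 : Module.finrank (ZMod p) A = 2 :=
    (Nat.pow_right_injective hp.out.two_le h1).symm
  haveI hfin : Module.Finite (ZMod p) A := Module.Finite.of_finite
  exact ⟨(Module.finBasisOfFinrankEq (ZMod p) A h2).equivFun.toAddEquiv⟩

/-- An additive group of order `p²` and exponent `p` is `F_p²`. -/
lemma exists_add_equiv {A : Type*} [AddCommGroup A] [Finite A] (hpa : ∀ a : A, p • a = 0)
    (hc : Nat.card A = p ^ 2) : Nonempty (A ≃+ (Fin 2 → ZMod p)) := by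
  letI : Module (ZMod p) A := AddCommGroup.zmodModule (by simpa using hpa)
  exact aux_add_equiv hc

variable [Finite Q]

theorem exists_ext (hE : Cfsg.IsExtraspecial p Q) (hcard : Nat.card Q = p ^ 3)
    (hexp : Monoid.exponent Q = p) : Nonempty (Ext Q p) := by
  classical
  have hc : ∀ x y : Q, ⁅x, y⁆ ∈ center Q := IsExtraspecial.comm_mem_center hE
  have hx : ∀ x : Q, x ^ p = 1 := by
    intro x
    rw [← hexp]
    exact Monoid.pow_exponent_eq_one x
  have hcen : Nat.card (center Q) = p := hE.2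
  have hcomm : ∀ a b : Q ⧸ center Q, a * b = b * a := by
    intro a b
    obtain ⟨x, rfl⟩ := QuotientGroup.mk_surjective a
    obtain ⟨y, rfl⟩ := QuotientGroup.mk_surjective b
    rw [← QuotientGroup.mk_mul, ← QuotientGroup.mk_mul, QuotientGroup.eq]
    have := hc y⁻¹ x⁻¹
    have e : (x * y)⁻¹ * (y * x) = ⁅y⁻¹, x⁻¹⁆ := by
      simp only [commutatorElement_def]
      group
    rw [e]
    exact this
  letI : CommGroup (Q ⧸ center Q) := { (inferInstance : Group (Q ⧸ center Q)) with mul_comm := hcomm }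
  have hcardA : Nat.card (Q ⧸ center Q) = p ^ 2 := by
    have h1 := Subgroup.card_eq_card_quotient_mul_card_subgroup (center Q)
    rw [hcard, hcen] at h1
    have hp0 : 0 < p := hp.out.pos
    apply Nat.eq_of_mul_eq_mul_right hp0
    rw [← h1]
    ring
  have hpa : ∀ a : Additive (Q ⧸ center Q), p • a = 0 := by
    intro a
    obtain ⟨x, rfl⟩ := QuotientGroup.mk_surjective (Additive.toMul a)
    show Additive.ofMul (((x : Q ⧸ center Q)) ^ p) = 0
    rw [← QuotientGroup.mk_pow, hx]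
    rfl
  obtain ⟨e⟩ := exists_add_equiv (A := Additive (Q ⧸ center Q)) hpa hcardA
  let pi : Q → Fin 2 → ZMod p := fun x => e (Additive.ofMul (x : Q ⧸ center Q))
  have pi_mul : ∀ x y, pi (x * y) = pi x + pi y := by
    intro x y
    show e (Additive.ofMul ((x * y : Q) : Q ⧸ center Q)) = _
    rw [QuotientGroup.mk_mul, ofMul_mul, map_add]
  have pi_surj : Function.Surjective pi := by
    intro v
    obtain ⟨x, hx'⟩ := QuotientGroup.mk_surjective (Additive.toMul (e.symm v))
    refine ⟨x, ?_⟩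
    show e (Additive.ofMul (x : Q ⧸ center Q)) = v
    rw [hx']
    simp
  have pi_eq_zero : ∀ x, pi x = 0 ↔ x ∈ center Q := by
    intro x
    show e (Additive.ofMul (x : Q ⧸ center Q)) = 0 ↔ _
    rw [map_eq_zero_iff e e.injective, ← QuotientGroup.eq_one_iff]
    rfl
  have pi_one : pi 1 = 0 := (pi_eq_zero 1).2 (one_mem _)
  have pi_pow : ∀ (x : Q) (n : ℕ), pi (x ^ n) = n • pi x := by
    intro x n
    induction n with
    | zero => simp [pi_one]
    | succ n ih => rw [pow_succ, pi_mul, ih, succ_nsmul]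
  obtain ⟨x₀, hx₀⟩ := pi_surj ![1, 0]
  obtain ⟨y₀, hy₀⟩ := pi_surj ![0, 1]
  set z := ⁅x₀, y₀⁆ with hz
  have hz0 : z ∈ center Q := hc _ _
  -- decomposition
  have dec : ∀ u : Q, ∃ c ∈ center Q, u = x₀ ^ (pi u 0).val * y₀ ^ (pi u 1).val * c := by
    intro u
    have h1 : pi (x₀ ^ (pi u 0).val * y₀ ^ (pi u 1).val) = pi u := by
      rw [pi_mul, pi_pow, pi_pow, hx₀, hy₀]
      funext i
      fin_cases i <;> simp
    generalize x₀ ^ (pi u 0).val * y₀ ^ (pi u 1).val = w at h1 ⊢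
    refine ⟨w⁻¹ * u, ?_, by group⟩
    rw [← pi_eq_zero, pi_mul]
    have h2 : pi w⁻¹ = - pi w := by
      rw [eq_neg_iff_add_eq_zero, ← pi_mul, inv_mul_cancel, pi_one]
    rw [h2, h1]
    simp
  have hz_p : z ^ p = 1 := hx z
  have cc : ∀ (c v : Q), c ∈ center Q → ⁅c, v⁆ = 1 := by
    intro c v h
    rw [commutatorElement_eq_one_iff_mul_comm]
    exact ((mem_center_iff.mp h) v).symm
  have cc' : ∀ (c v : Q), c ∈ center Q → ⁅v, c⁆ = 1 := by
    intro c v h
    rw [commutatorElement_eq_one_iff_mul_comm]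
    exact ((mem_center_iff.mp h) v)
  have comm_eq : ∀ u v, ⁅u, v⁆ = ep z (pi u 0 * pi v 1 - pi u 1 * pi v 0) := by
    intro u v
    obtain ⟨c, hc1, hu⟩ := dec u
    obtain ⟨d, hd1, hv⟩ := dec v
    set i := (pi u 0).val with hi
    set j := (pi u 1).val with hj
    set k := (pi v 0).val with hk
    set l := (pi v 1).val with hl
    have e1 : ⁅u, v⁆ = ⁅x₀ ^ i * y₀ ^ j * c, x₀ ^ k * y₀ ^ l * d⁆ := by
      rw [← hu, ← hv]
    have e2 : ⁅x₀ ^ i * y₀ ^ j * c, x₀ ^ k * y₀ ^ l * d⁆ = ⁅x₀, y₀⁆ ^ (i * l) * ⁅y₀, x₀⁆ ^ (j * k) := by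
      rw [comm_mul_left hc, comm_mul_left hc, cc c _ hc1, mul_one]
      rw [comm_mul_right hc, comm_mul_right hc, comm_mul_right hc, comm_mul_right hc,
        cc' d _ hd1, cc' d _ hd1, mul_one, mul_one]
      rw [comm_pow_left hc, comm_pow_left hc, comm_pow_left hc, comm_pow_left hc,
        comm_pow_right hc, comm_pow_right hc, comm_pow_right hc, comm_pow_right hc]
      have e3 : ⁅x₀, x₀⁆ = 1 := commutatorElement_self x₀
      have e4 : ⁅y₀, y₀⁆ = 1 := commutatorElement_self y₀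
      rw [e3, e4]
      simp only [one_pow, mul_one, one_mul, pow_mul]
      rw [pow_right_comm _ l i, pow_right_comm _ k j]
    rw [e1, e2]
    have e5 : ⁅y₀, x₀⁆ = z⁻¹ := by
      rw [hz, commutatorElement_inv]
    rw [e5, inv_pow, ← hz]
    have e6 : pi u 0 * pi v 1 = ((i * l : ℕ) : ZMod p) := by
      rw [Nat.cast_mul, hi, hl, ZMod.natCast_zmod_val, ZMod.natCast_zmod_val]
    have e7 : pi u 1 * pi v 0 = ((j * k : ℕ) : ZMod p) := by
      rw [Nat.cast_mul, hj, hk, ZMod.natCast_zmod_val, ZMod.natCast_zmod_val]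
    rw [ep_sub hz_p, e6, e7, ep_natCast hz_p, ep_natCast hz_p]
  have hz1 : z ≠ 1 := by
    intro h1
    have h2 : ∀ u v : Q, ⁅u, v⁆ = 1 := by
      intro u v
      rw [comm_eq, h1]
      simp [ep]
    have h3 : center Q = ⊤ := by
      rw [eq_top_iff]
      intro x _
      rw [mem_center_iff]
      intro g
      exact (commutatorElement_eq_one_iff_mul_comm).1 (h2 g x)
    rw [h3] at hcen
    have h4 : Nat.card (⊤ : Subgroup Q) = Nat.card Q := Nat.card_congr Subgroup.topEquiv.toEquiv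
    rw [h4, hcard] at hcen
    have h5 := hp.out.one_lt
    have h6 : p ^ 3 = p ^ 1 := by rw [hcen, pow_one]
    have h7 := Nat.pow_right_injective hp.out.two_le h6
    omega
  have center_eq : ∀ c ∈ center Q, ∃ s : ZMod p, c = ep z s := by
    intro c hc1
    have h1 : zpowers z ≤ center Q := by
      rw [zpowers_le]
      exact hz0
    have h2 : Nat.card (zpowers z) = p := by
      rw [Nat.card_zpowers]
      exact orderOf_eq_prime hz_p hz1
    have h3 : zpowers z = center Q := Subgroup.eq_of_le_of_card_ge h1 (by rw [h2, hcen])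
    rw [← h3] at hc1
    obtain ⟨n, hn⟩ := (mem_powers_iff_mem_zpowers).2 hc1
    refine ⟨(n : ZMod p), ?_⟩
    rw [ep_natCast hz_p]
    exact hn.symm
  exact ⟨{ pi := pi, pi_mul := pi_mul, pi_surj := pi_surj, pi_eq_zero := pi_eq_zero, z := z,
           z_ne := hz1, z_mem := hz0, exp := hx, comm_eq := comm_eq, center_eq := center_eq }⟩

end Structure

namespace Ext

variable {Q : Type*} [Group Q] {p : ℕ} [hp : Fact p.Prime] (D : Ext Q p)

lemma pi_one : D.pi 1 = 0 := (D.pi_eq_zero 1).2 (one_mem _)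

lemma pi_inv (x : Q) : D.pi x⁻¹ = - D.pi x := by
  rw [eq_neg_iff_add_eq_zero, ← D.pi_mul]
  simp [D.pi_one]

lemma pi_pow (x : Q) (n : ℕ) : D.pi (x ^ n) = n • D.pi x := by
  induction n with
  | zero => simp [D.pi_one]
  | succ n ih => rw [pow_succ, D.pi_mul, ih, succ_nsmul]

lemma pi_ep (x : Q) (a : ZMod p) : D.pi (ep x a) = a • D.pi x := by
  rw [ep, D.pi_pow]
  funext i
  simp

lemma pi_z : D.pi D.z = 0 := (D.pi_eq_zero _).2 D.z_mem

lemma z_pow : D.z ^ p = 1 := D.exp _

lemma z_comm (x : Q) : x * D.z = D.z * x := ((mem_center_iff.mp D.z_mem) x)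

lemma pi_eq_iff {x y : Q} : D.pi x = D.pi y ↔ x⁻¹ * y ∈ center Q := by
  rw [← D.pi_eq_zero, D.pi_mul, D.pi_inv, neg_add_eq_zero]

lemma pi_conj (y x : Q) : D.pi (y * x * y⁻¹) = D.pi x := by
  rw [D.pi_mul, D.pi_mul, D.pi_inv]
  abel

/-- Multiplication on the left by a commutator. -/
lemma conj_eq_comm_mul (y u : Q) : y * u * y⁻¹ = ⁅y, u⁆ * u := by
  simp only [commutatorElement_def]
  group

/-- Every `s` is a commutator with a given noncentral `u`. -/
lemma exists_comm_eq {u : Q} (hu : D.pi u ≠ 0) (s : ZMod p) : ∃ y : Q, ⁅y, u⁆ = ep D.z s := by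
  by_cases h1 : D.pi u 1 = 0
  · have h0 : D.pi u 0 ≠ 0 := by
      intro h0
      apply hu
      funext i
      fin_cases i
      · exact h0
      · exact h1
    obtain ⟨y, hy⟩ := D.pi_surj ![0, - s / D.pi u 0]
    refine ⟨y, ?_⟩
    rw [D.comm_eq, hy]
    congr 1
    simp [h1]
    field_simp
  · obtain ⟨y, hy⟩ := D.pi_surj ![s / D.pi u 1, 0]
    refine ⟨y, ?_⟩
    rw [D.comm_eq, hy]
    congr 1
    simp
    field_simp

/-- The centre of `Q` is cyclic generated by `z`: a nontrivial central element is a generator. -/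
lemma z_eq_ep_of_central {c : Q} (hc : c ∈ center Q) (hc1 : c ≠ 1) :
    ∃ s : ZMod p, s ≠ 0 ∧ c = ep D.z s ∧ D.z = ep c s⁻¹ := by
  obtain ⟨s, rfl⟩ := D.center_eq c hc
  have hs : s ≠ 0 := by
    rintro rfl
    exact hc1 (ep_zero _)
  exact ⟨s, hs, rfl, (ep_inv_back D.z_pow hs).symm⟩

section Matrix

variable {D}

/-- A section of `pi`. -/
noncomputable def sec (D : Ext Q p) (v : Fin 2 → ZMod p) : Q := Function.surjInv D.pi_surj v

lemma pi_sec (v : Fin 2 → ZMod p) : D.pi (D.sec v) = v := Function.surjInv_eq D.pi_surj v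

lemma map_center_mem (σ : MulAut Q) {c : Q} (hc : c ∈ center Q) : σ c ∈ center Q := by
  rw [mem_center_iff] at hc ⊢
  intro g
  have := hc (σ.symm g)
  have h2 := congrArg σ this
  simpa using h2

lemma pi_map_congr (σ : MulAut Q) {x y : Q} (h : D.pi x = D.pi y) : D.pi (σ x) = D.pi (σ y) := by
  rw [pi_eq_iff] at h ⊢
  have := map_center_mem σ h
  simpa using this

/-- The linear map induced by an automorphism. -/
noncomputable def lmap (D : Ext Q p) (σ : MulAut Q) : (Fin 2 → ZMod p) →ₗ[ZMod p] (Fin 2 → ZMod p) :=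
  (AddMonoidHom.mk' (fun v => D.pi (σ (D.sec v))) (by
    intro a b
    have h : D.pi (D.sec (a + b)) = D.pi (D.sec a * D.sec b) := by
      rw [D.pi_mul, pi_sec, pi_sec, pi_sec]
    rw [pi_map_congr σ h, map_mul, D.pi_mul])).toZModLinearMap p

lemma lmap_pi (σ : MulAut Q) (x : Q) : D.lmap σ (D.pi x) = D.pi (σ x) := by
  show D.pi (σ (D.sec (D.pi x))) = _
  exact pi_map_congr σ (pi_sec _)

/-- The matrix of an automorphism. -/
noncomputable def mat (D : Ext Q p) (σ : MulAut Q) : Matrix (Fin 2) (Fin 2) (ZMod p) :=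
  LinearMap.toMatrix' (D.lmap σ)

lemma mat_pi (σ : MulAut Q) (x : Q) : D.mat σ *ᵥ D.pi x = D.pi (σ x) := by
  rw [mat, LinearMap.toMatrix'_mulVec, lmap_pi]

lemma mat_ext {A B : Matrix (Fin 2) (Fin 2) (ZMod p)}
    (h : ∀ x : Q, A *ᵥ D.pi x = B *ᵥ D.pi x) : A = B := by
  apply Matrix.mulVec_injective
  funext v
  obtain ⟨x, rfl⟩ := D.pi_surj v
  exact h x

/-- The matrix homomorphism. -/
noncomputable def matHom (D : Ext Q p) : MulAut Q →* Matrix (Fin 2) (Fin 2) (ZMod p) where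
  toFun := D.mat
  map_one' := by
    apply mat_ext (D := D)
    intro x
    rw [mat_pi, Matrix.one_mulVec]
    rfl
  map_mul' σ τ := by
    apply mat_ext (D := D)
    intro x
    rw [mat_pi, ← Matrix.mulVec_mulVec, mat_pi, mat_pi]
    rfl

/-- The homomorphism to `GL(2, p)`. -/
noncomputable def rho (D : Ext Q p) : MulAut Q →* GL (Fin 2) (ZMod p) := D.matHom.toHomUnits

lemma rho_pi (σ : MulAut Q) (x : Q) : (D.rho σ).1 *ᵥ D.pi x = D.pi (σ x) := mat_pi σ x

/-- The determinant is the action on the centre. -/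
lemma map_z (σ : MulAut Q) : σ D.z = ep D.z (D.rho σ).1.det := by
  have h1 : D.z = ⁅D.sec ![1, 0], D.sec ![0, 1]⁆ := by
    rw [D.comm_eq, pi_sec, pi_sec]
    simp [ep_one D.z_pow]
  conv_lhs => rw [h1]
  rw [map_commutatorElement, D.comm_eq, ← rho_pi, ← rho_pi, pi_sec, pi_sec, Matrix.det_fin_two]
  congr 1
  simp [Matrix.mulVec, dotProduct, Fin.sum_univ_two]
  ring

end Matrix

end Ext

end Cfsg.Agent.Lib.Ruiz.Coord
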