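import Mathlib

/-!
# Two by two linear algebra for the Ruiz–Viruel bound

Eigenvectors of `2 × 2` matrices and commuting elements of `PGL(2, F)`.
-/

set_option autoImplicit false
set_option linter.unusedSectionVars false

namespace Cfsg.Agent.Lib.Ruiz.Linear

open Matrix
open scoped MatrixGroups

variable {F : Type*} [Field F]

/-- Independence of two vectors of `F²`. -/
def Ind (u v : Fin 2 → F) : Prop := u 0 * v 1 - u 1 * v 0 ≠ 0

lemma mulVec_zero (M : Matrix (Fin 2) (Fin 2) F) (v : Fin 2 → F) :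
    (M *ᵥ v) 0 = M 0 0 * v 0 + M 0 1 * v 1 := by
  simp [Matrix.mulVec, dotProduct, Fin.sum_univ_two]

lemma mulVec_one (M : Matrix (Fin 2) (Fin 2) F) (v : Fin 2 → F) :
    (M *ᵥ v) 1 = M 1 0 * v 0 + M 1 1 * v 1 := by
  simp [Matrix.mulVec, dotProduct, Fin.sum_univ_two]

lemma vec_ext {u v : Fin 2 → F} (h0 : u 0 = v 0) (h1 : u 1 = v 1) : u = v := by
  funext i
  fin_cases i
  · exact h0
  · exact h1

lemma eig_eqs {M : Matrix (Fin 2) (Fin 2) F} {u : Fin 2 → F} {c : F} (h : M *ᵥ u = c • u) :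
    M 0 0 * u 0 + M 0 1 * u 1 = c * u 0 ∧ M 1 0 * u 0 + M 1 1 * u 1 = c * u 1 := by
  constructor
  · have := congrFun h 0
    rwa [mulVec_zero, Pi.smul_apply, smul_eq_mul] at this
  · have := congrFun h 1
    rwa [mulVec_one, Pi.smul_apply, smul_eq_mul] at this

/-- A matrix with two independent eigenvectors for the same eigenvalue is scalar. -/
lemma eq_smul_one_of_eig {M : Matrix (Fin 2) (Fin 2) F} {c : F} {u v : Fin 2 → F}
    (hu : M *ᵥ u = c • u) (hv : M *ᵥ v = c • v) (h : Ind u v) : M = c • 1 := by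
  obtain ⟨a1, a2⟩ := eig_eqs hu
  obtain ⟨b1, b2⟩ := eig_eqs hv
  have hd : u 0 * v 1 - u 1 * v 0 ≠ 0 := h
  ext i j
  fin_cases i <;> fin_cases j
  · simp only [Fin.zero_eta, Fin.isValue, Matrix.smul_apply, Matrix.one_apply_eq, smul_eq_mul,
      mul_one]
    apply mul_right_cancel₀ hd
    linear_combination v 1 * a1 - u 1 * b1
  · simp only [Fin.zero_eta, Fin.isValue, Fin.mk_one, Matrix.smul_apply, smul_eq_mul,
      Matrix.one_apply_ne (show (0 : Fin 2) ≠ 1 by decide), mul_zero]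
    apply mul_right_cancel₀ hd
    rw [zero_mul]
    linear_combination -v 0 * a1 + u 0 * b1
  · simp only [Fin.mk_one, Fin.isValue, Fin.zero_eta, Matrix.smul_apply, smul_eq_mul,
      Matrix.one_apply_ne (show (1 : Fin 2) ≠ 0 by decide), mul_zero]
    apply mul_right_cancel₀ hd
    rw [zero_mul]
    linear_combination v 1 * a2 - u 1 * b2
  · simp only [Fin.mk_one, Fin.isValue, Matrix.smul_apply, Matrix.one_apply_eq, smul_eq_mul,
      mul_one]
    apply mul_right_cancel₀ hd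
    linear_combination -v 0 * a2 + u 0 * b2

/-- A matrix with three pairwise independent eigenvectors is scalar. -/
lemma eq_smul_one_of_three {M : Matrix (Fin 2) (Fin 2) F} {α β γ : F} {u v w : Fin 2 → F}
    (hu : M *ᵥ u = α • u) (hv : M *ᵥ v = β • v) (hw : M *ᵥ w = γ • w)
    (huv : Ind u v) (huw : Ind u w) (hvw : Ind v w) : M = γ • 1 := by
  obtain ⟨a1, a2⟩ := eig_eqs hu
  obtain ⟨b1, b2⟩ := eig_eqs hv
  obtain ⟨c1, c2⟩ := eig_eqs hw
  have d1 : u 0 * v 1 - u 1 * v 0 ≠ 0 := huv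
  have d2 : u 0 * w 1 - u 1 * w 0 ≠ 0 := huw
  have d3 : v 0 * w 1 - v 1 * w 0 ≠ 0 := hvw
  -- the Plücker relation gives `α = γ` and `β = γ`
  have e1 : (α - γ) * (v 0 * w 1 - v 1 * w 0) = 0 := by
    apply mul_left_cancel₀ d1
    have h0 : (u 0 * v 1 - u 1 * v 0) * w 0 = (w 0 * v 1 - w 1 * v 0) * u 0 +
        (u 0 * w 1 - u 1 * w 0) * v 0 := by ring
    have h1 : (u 0 * v 1 - u 1 * v 0) * w 1 = (w 0 * v 1 - w 1 * v 0) * u 1 +
        (u 0 * w 1 - u 1 * w 0) * v 1 := by ring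
    -- eliminate `M`
    have k0 : γ * ((u 0 * v 1 - u 1 * v 0) * w 0) = α * (w 0 * v 1 - w 1 * v 0) * u 0 +
        β * (u 0 * w 1 - u 1 * w 0) * v 0 := by
      linear_combination (-(u 0 * v 1 - u 1 * v 0)) * c1 + (w 0 * v 1 - w 1 * v 0) * a1 +
        (u 0 * w 1 - u 1 * w 0) * b1
    have k1 : γ * ((u 0 * v 1 - u 1 * v 0) * w 1) = α * (w 0 * v 1 - w 1 * v 0) * u 1 +
        β * (u 0 * w 1 - u 1 * w 0) * v 1 := by
      linear_combination (-(u 0 * v 1 - u 1 * v 0)) * c2 + (w 0 * v 1 - w 1 * v 0) * a2 +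
        (u 0 * w 1 - u 1 * w 0) * b2
    rw [h0] at k0
    rw [h1] at k1
    linear_combination (v 1) * k0 - (v 0) * k1
  have e2 : (β - γ) * (u 0 * w 1 - u 1 * w 0) = 0 := by
    apply mul_left_cancel₀ d1
    have h0 : (u 0 * v 1 - u 1 * v 0) * w 0 = (w 0 * v 1 - w 1 * v 0) * u 0 +
        (u 0 * w 1 - u 1 * w 0) * v 0 := by ring
    have h1 : (u 0 * v 1 - u 1 * v 0) * w 1 = (w 0 * v 1 - w 1 * v 0) * u 1 +
        (u 0 * w 1 - u 1 * w 0) * v 1 := by ring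
    have k0 : γ * ((u 0 * v 1 - u 1 * v 0) * w 0) = α * (w 0 * v 1 - w 1 * v 0) * u 0 +
        β * (u 0 * w 1 - u 1 * w 0) * v 0 := by
      linear_combination (-(u 0 * v 1 - u 1 * v 0)) * c1 + (w 0 * v 1 - w 1 * v 0) * a1 +
        (u 0 * w 1 - u 1 * w 0) * b1
    have k1 : γ * ((u 0 * v 1 - u 1 * v 0) * w 1) = α * (w 0 * v 1 - w 1 * v 0) * u 1 +
        β * (u 0 * w 1 - u 1 * w 0) * v 1 := by
      linear_combination (-(u 0 * v 1 - u 1 * v 0)) * c2 + (w 0 * v 1 - w 1 * v 0) * a2 +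
        (u 0 * w 1 - u 1 * w 0) * b2
    rw [h0] at k0
    rw [h1] at k1
    linear_combination (u 1) * k0 - (u 0) * k1
  have hα : α = γ := sub_eq_zero.1 ((mul_eq_zero.1 e1).resolve_right d3)
  have hβ : β = γ := sub_eq_zero.1 ((mul_eq_zero.1 e2).resolve_right d2)
  subst hα
  subst hβ
  exact eq_smul_one_of_eig hu hv huv

/-- If `v ≠ 0` and `u, v` are not independent then `u` is a multiple of `v`. -/
lemma exists_eq_smul_of_not_ind {u v : Fin 2 → F} (hv : v ≠ 0) (h : ¬ Ind u v) :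
    ∃ c : F, u = c • v := by
  have h0 : u 0 * v 1 = u 1 * v 0 := by
    by_contra h1
    exact h (sub_ne_zero.2 h1)
  by_cases hv0 : v 0 = 0
  · have hv1 : v 1 ≠ 0 := by
      intro hv1
      exact hv (vec_ext hv0 hv1)
    refine ⟨u 1 / v 1, vec_ext ?_ ?_⟩
    · simp only [Pi.smul_apply, smul_eq_mul, hv0, mul_zero]
      rw [hv0, mul_zero] at h0
      exact (mul_eq_zero.1 h0).resolve_right hv1
    · simp only [Pi.smul_apply, smul_eq_mul]
      field_simp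
  · refine ⟨u 0 / v 0, vec_ext ?_ ?_⟩
    · simp only [Pi.smul_apply, smul_eq_mul]
      field_simp
    · simp only [Pi.smul_apply, smul_eq_mul]
      field_simp
      linear_combination (-1 : F) * h0

lemma ne_zero_of_ind_left {u v : Fin 2 → F} (h : Ind u v) : u ≠ 0 := by
  rintro rfl
  exact h (by simp)

lemma ne_zero_of_ind_right {u v : Fin 2 → F} (h : Ind u v) : v ≠ 0 := by
  rintro rfl
  exact h (by simp)

/-- `L1`: a matrix commuting with a non-scalar matrix preserves its eigenvectors. -/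
lemma eig_of_comm {M N : Matrix (Fin 2) (Fin 2) F} {v : Fin 2 → F} {μ : F} (hv0 : v ≠ 0)
    (hv : N *ᵥ v = μ • v) (hc : N * M = M * N) (hN : ∀ c : F, N ≠ c • 1) :
    ∃ c : F, M *ᵥ v = c • v := by
  apply exists_eq_smul_of_not_ind hv0
  intro h
  have h1 : N *ᵥ (M *ᵥ v) = μ • (M *ᵥ v) := by
    rw [Matrix.mulVec_mulVec, hc, ← Matrix.mulVec_mulVec, hv, Matrix.mulVec_smul]
  exact hN μ (eq_smul_one_of_eig h1 hv h)

section PGL

open Matrix.ProjGenLinGroup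

lemma mk_eq_one_of_smul {M : GL (Fin 2) F} {c : F} (h : M.1 = c • 1) : mk M = 1 := by
  rw [mk_eq_one, Subgroup.mem_center_iff]
  intro g
  apply Units.ext
  show g.1 * M.1 = M.1 * g.1
  rw [h]
  simp

lemma exists_smul_of_mk_eq_one {M : GL (Fin 2) F} (h : mk M = 1) :
    ∃ c : F, M.1 = c • 1 := by
  have h1 : mk M = mk (1 : GL (Fin 2) F) := by rw [h, mk_one]
  obtain ⟨u, hu⟩ := mk_eq_mk_iff.1 h1.symm
  refine ⟨u, ?_⟩
  have := congrArg (fun A : GL (Fin 2) F => A.1) hu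
  simp only [one_mul] at this
  rw [← this]
  ext i j
  simp [Matrix.GeneralLinearGroup.scalar, Matrix.one_apply, Matrix.diagonal_apply, Matrix.scalar]

lemma det_coe_ne (M : GL (Fin 2) F) : M.1.det ≠ 0 := by
  have := Matrix.GeneralLinearGroup.det M
  exact (Matrix.isUnit_iff_isUnit_det _).1 M.isUnit |>.ne_zero

/-- If the images of `M₁` and `M₂` commute in `PGL(2, F)` then `M₂²` commutes with `M₁` in
`GL(2, F)`. -/
lemma sq_comm_of_mk_comm {M₁ M₂ : GL (Fin 2) F} (h : mk M₁ * mk M₂ = mk M₂ * mk M₁) :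
    (M₂ * M₂).1 * M₁.1 = M₁.1 * (M₂ * M₂).1 := by
  rw [← map_mul, ← map_mul] at h
  obtain ⟨u, hu⟩ := mk_eq_mk_iff.1 h
  have hu' : M₁.1 * M₂.1 * (u : F) • 1 = M₂.1 * M₁.1 := by
    have := congrArg (fun A : GL (Fin 2) F => A.1) hu
    simp only [Units.val_mul] at this
    rw [← this]
    congr 1
    ext i j
    simp [Matrix.GeneralLinearGroup.scalar, Matrix.one_apply, Matrix.diagonal_apply, Matrix.scalar]
  have hu2 : M₁.1 * M₂.1 * (u : F) • 1 = (u : F) • (M₁.1 * M₂.1) := by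
    rw [Matrix.mul_smul, mul_one]
  rw [hu2] at hu'
  have hdet : (u : F) ^ 2 = 1 := by
    have := congrArg Matrix.det hu'
    rw [Matrix.det_smul, Matrix.det_mul, Matrix.det_mul, Fintype.card_fin] at this
    have h1 : M₁.1.det * M₂.1.det ≠ 0 := mul_ne_zero (det_coe_ne _) (det_coe_ne _)
    apply mul_right_cancel₀ h1
    rw [this]
    ring
  show M₂.1 * M₂.1 * M₁.1 = M₁.1 * (M₂.1 * M₂.1)
  calc M₂.1 * M₂.1 * M₁.1 = M₂.1 * (M₂.1 * M₁.1) := by rw [mul_assoc]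
    _ = M₂.1 * ((u : F) • (M₁.1 * M₂.1)) := by rw [hu']
    _ = (u : F) • (M₂.1 * M₁.1 * M₂.1) := by
      rw [Matrix.mul_smul, mul_assoc]
    _ = (u : F) • (((u : F) • (M₁.1 * M₂.1)) * M₂.1) := by rw [hu']
    _ = ((u : F) ^ 2) • (M₁.1 * (M₂.1 * M₂.1)) := by
      rw [Matrix.smul_mul, smul_smul, pow_two, mul_assoc]
    _ = M₁.1 * (M₂.1 * M₂.1) := by rw [hdet, one_smul]

/-- The core of the three line argument. -/
theorem core {M₁ M₂ M₃ : GL (Fin 2) F} {v₁ v₂ v₃ : Fin 2 → F} {a₁ a₂ a₃ : F}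
    (h1 : M₁.1 *ᵥ v₁ = a₁ • v₁) (h2 : M₂.1 *ᵥ v₂ = a₂ • v₂) (h3 : M₃.1 *ᵥ v₃ = a₃ • v₃)
    (h12 : Ind v₁ v₂) (h13 : Ind v₁ v₃) (h23 : Ind v₂ v₃)
    (c12 : mk M₁ * mk M₂ = mk M₂ * mk M₁) (c13 : mk M₁ * mk M₃ = mk M₃ * mk M₁)
    (n1 : mk M₁ ≠ 1) (n2 : mk M₂ * mk M₂ ≠ 1) (n3 : mk M₃ * mk M₃ ≠ 1) : False := by
  have key : ∀ {M : GL (Fin 2) F} {v : Fin 2 → F} {a : F}, M.1 *ᵥ v = a • v → v ≠ 0 →
      mk M₁ * mk M = mk M * mk M₁ → mk M * mk M ≠ 1 → ∃ c : F, M₁.1 *ᵥ v = c • v := by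
    intro M v a hM hv hc hn
    have hs := sq_comm_of_mk_comm hc
    refine eig_of_comm (N := (M * M).1) (μ := a * a) hv ?_ hs ?_
    · show (M.1 * M.1) *ᵥ v = _
      rw [← Matrix.mulVec_mulVec, hM, Matrix.mulVec_smul, hM, smul_smul]
    · intro c hc'
      apply hn
      rw [← map_mul]
      exact mk_eq_one_of_smul hc'
  obtain ⟨c2, hc2⟩ := key h2 (ne_zero_of_ind_left h23) c12 n2
  obtain ⟨c3, hc3⟩ := key h3 (ne_zero_of_ind_right h23) c13 n3
  exact n1 (mk_eq_one_of_smul (eq_smul_one_of_three h1 hc2 hc3 h12 h13 h23))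

/-- Three pairwise independent eigenvectors force a trivial image in `PGL(2, F)`. -/
theorem mk_eq_one_of_three {M : GL (Fin 2) F} {u v w : Fin 2 → F} {α β γ : F}
    (h1 : M.1 *ᵥ u = α • u) (h2 : M.1 *ᵥ v = β • v) (h3 : M.1 *ᵥ w = γ • w)
    (h12 : Ind u v) (h13 : Ind u w) (h23 : Ind v w) : mk M = 1 :=
  mk_eq_one_of_smul (eq_smul_one_of_three h1 h2 h3 h12 h13 h23)

/-- The order computation. -/
theorem pow_three_mul_eq_one {M : GL (Fin 2) F} {v : Fin 2 → F} {a : F} (hv : v ≠ 0)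
    (h : M.1 *ᵥ v = a • v) (hd : M.1.det = a⁻¹) {k : ℕ} (hk : mk M ^ k = 1) :
    a ^ (3 * k) = 1 := by
  have ha : a ≠ 0 := by
    intro ha
    rw [ha, _root_.inv_zero] at hd
    exact det_coe_ne M hd
  have hM : mk (M ^ k) = 1 := by rw [map_pow, hk]
  obtain ⟨c, hc⟩ := exists_smul_of_mk_eq_one hM
  have hpow : ∀ n : ℕ, (M ^ n).1 *ᵥ v = a ^ n • v := by
    intro n
    induction n with
    | zero => simp
    | succ n ih =>
      rw [pow_succ, Units.val_mul, ← Matrix.mulVec_mulVec, h, Matrix.mulVec_smul, ih, smul_smul,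
        pow_succ, mul_comm]
  have h1 := hpow k
  rw [hc, Matrix.smul_mulVec, Matrix.one_mulVec] at h1
  -- `c = a ^ k`
  have hv' : ∃ i, v i ≠ 0 := by
    by_contra hcon
    exact hv (funext fun i => by_contra fun h => hcon ⟨i, h⟩)
  obtain ⟨i, hi⟩ := hv'
  have hca : c = a ^ k := by
    have := congrFun h1 i
    simp only [Pi.smul_apply, smul_eq_mul] at this
    exact mul_right_cancel₀ hi this
  have hdet : (M ^ k).1.det = c ^ 2 := by
    rw [hc, Matrix.det_smul, Fintype.card_fin, Matrix.det_one, mul_one]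
  have hdet2 : (M ^ k).1.det = (a⁻¹) ^ k := by
    rw [Units.val_pow_eq_pow_val, Matrix.det_pow, hd]
  rw [hdet2, hca] at hdet
  have h5 : a ^ k ≠ 0 := pow_ne_zero _ ha
  have e : a ^ (3 * k) = (a ^ k) ^ 2 * a ^ k := by ring
  rw [e, ← hdet, inv_pow]
  exact inv_mul_cancel₀ h5

end PGL

end Cfsg.Agent.Lib.Ruiz.Linear
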