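import Mathlib
import Cfsg.Agent.Lib.Ruiz.Coord
import Cfsg.Agent.Lib.Ruiz.Linear

/-!
# Lines with `SL₂`-type fusion give elements of the normalizer of the Sylow subgroup
-/

set_option autoImplicit false
set_option linter.unusedSectionVars false
set_option linter.unusedVariables false
set_option linter.style.haveILetI false

namespace Cfsg.Agent.Lib.Ruiz.Good

open Subgroup Matrix
open scoped commutatorElement MatrixGroups
open Cfsg.Agent.Lib.Ruiz.Coord

section Words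

variable {G : Type*} [Group G] {p : ℕ} [hp : Fact p.Prime]

/-- The coordinates on the subgroup generated by the commuting elements `w` and `z`. -/
def E (w z : G) (v : Fin 2 → ZMod p) : G := ep w (v 0) * ep z (v 1)

variable {w z : G}

lemma comm_ep (hc : Commute w z) (a b : ZMod p) : Commute (ep w a) (ep z b) :=
  hc.pow_pow _ _

lemma E_add (hw : w ^ p = 1) (hz : z ^ p = 1) (hc : Commute w z) (u v : Fin 2 → ZMod p) :
    E w z (u + v) = E w z u * E w z v := by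
  simp only [E, Pi.add_apply, ep_add hw, ep_add hz]
  have := (comm_ep hc (v 0) (u 1)).eq
  calc ep w (u 0) * ep w (v 0) * (ep z (u 1) * ep z (v 1))
      = ep w (u 0) * (ep w (v 0) * ep z (u 1)) * ep z (v 1) := by group
    _ = ep w (u 0) * (ep z (u 1) * ep w (v 0)) * ep z (v 1) := by rw [this]
    _ = _ := by group

lemma E_smul (hw : w ^ p = 1) (hz : z ^ p = 1) (hc : Commute w z) (c : ZMod p)
    (v : Fin 2 → ZMod p) : E w z (c • v) = ep (E w z v) c := by
  simp only [E, Pi.smul_apply, smul_eq_mul]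
  rw [ep_of_commute (comm_ep hc _ _), ← ep_mul hw, ← ep_mul hz, mul_comm c, mul_comm c]

lemma E_e0 (hw : w ^ p = 1) : E w z (![1, 0] : Fin 2 → ZMod p) = w := by
  simp [E, ep_one hw]

lemma E_e1 (hz : z ^ p = 1) : E w z (![0, 1] : Fin 2 → ZMod p) = z := by
  simp [E, ep_one hz]

lemma E_conj (g : G) (v : Fin 2 → ZMod p) :
    g * E w z v * g⁻¹ = ep (g * w * g⁻¹) (v 0) * ep (g * z * g⁻¹) (v 1) := by
  rw [← ep_conj, ← ep_conj, E]
  group

/-- A matrix is *realized* if it is induced by conjugation by an element of `G`. -/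
def Real (w z : G) (M : Matrix (Fin 2) (Fin 2) (ZMod p)) : Prop :=
  ∃ g : G, ∀ v, g * E w z v * g⁻¹ = E w z (M *ᵥ v)

lemma real_one : Real w z (1 : Matrix (Fin 2) (Fin 2) (ZMod p)) :=
  ⟨1, fun v => by simp⟩

lemma real_mul {M N : Matrix (Fin 2) (Fin 2) (ZMod p)} (hM : Real w z M) (hN : Real w z N) :
    Real w z (M * N) := by
  obtain ⟨g, hg⟩ := hM
  obtain ⟨k, hk⟩ := hN
  refine ⟨g * k, fun v => ?_⟩
  rw [← Matrix.mulVec_mulVec, ← hg, ← hk]
  group

lemma real_of_gens (hw : w ^ p = 1) (hz : z ^ p = 1) (hc : Commute w z)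
    {M : Matrix (Fin 2) (Fin 2) (ZMod p)} {g : G}
    (h0 : g * w * g⁻¹ = E w z (M *ᵥ ![1, 0])) (h1 : g * z * g⁻¹ = E w z (M *ᵥ ![0, 1])) :
    Real w z M := by
  refine ⟨g, fun v => ?_⟩
  rw [E_conj, h0, h1, ← E_smul hw hz hc, ← E_smul hw hz hc, ← E_add hw hz hc]
  congr 1
  funext i
  fin_cases i <;> simp [Matrix.mulVec, dotProduct, Fin.sum_univ_two] <;> ring

/-- The elementary matrices. -/
def e12 (s : ZMod p) : Matrix (Fin 2) (Fin 2) (ZMod p) := !![1, s; 0, 1]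

/-- The elementary matrices. -/
def e21 (s : ZMod p) : Matrix (Fin 2) (Fin 2) (ZMod p) := !![1, 0; s, 1]

lemma diag_word {a : ZMod p} (ha : a ≠ 0) :
    e12 a * e21 (-a⁻¹) * e12 a * (e12 (-1) * e21 1 * e12 (-1)) = !![a, 0; 0, a⁻¹] := by
  ext i j
  fin_cases i <;> fin_cases j <;>
    simp [e12, e21, Matrix.mul_apply, Fin.sum_univ_two, ha]

theorem exists_diag (hw : w ^ p = 1) (hz : z ^ p = 1)
    (h12 : ∀ s : ZMod p, Real w z (e12 s)) (h21 : ∀ s : ZMod p, Real w z (e21 s))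
    {a : ZMod p} (ha : a ≠ 0) :
    ∃ t : G, t * w * t⁻¹ = ep w a ∧ t * z * t⁻¹ = ep z a⁻¹ := by
  have h : Real w z (!![a, 0; 0, a⁻¹] : Matrix (Fin 2) (Fin 2) (ZMod p)) := by
    rw [← diag_word ha]
    exact real_mul (real_mul (real_mul (h12 _) (h21 _)) (h12 _))
      (real_mul (real_mul (h12 _) (h21 _)) (h12 _))
  obtain ⟨t, ht⟩ := h
  refine ⟨t, ?_, ?_⟩
  · have := ht ![1, 0]
    rw [E_e0 hw] at this
    rw [this]
    simp [E, Matrix.mulVec, dotProduct, Fin.sum_univ_two]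
  · have := ht ![0, 1]
    rw [E_e1 hz] at this
    rw [this]
    simp [E, Matrix.mulVec, dotProduct, Fin.sum_univ_two]

end Words

section Adjust

variable {G : Type*} [Group G] [Finite G] {p : ℕ} [hp : Fact p.Prime]

lemma ep_mem_zpowers (z : G) (s : ZMod p) : ep z s ∈ zpowers z :=
  pow_mem (mem_zpowers z) _

/-- Sylow's theorem in a subgroup containing `P` and `tPt⁻¹`. -/
theorem exists_mem_normalizer {P : Sylow p G} {T : Subgroup G} (hP : (P : Subgroup G) ≤ T) {t : G}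
    (ht : ∀ y ∈ (P : Subgroup G), t * y * t⁻¹ ∈ T) :
    ∃ h ∈ T, h * t ∈ normalizer ((P : Subgroup G) : Set G) := by
  set Q : Sylow p G := t • P with hQdef
  have hQ : (Q : Subgroup G) ≤ T := by
    intro q hq
    rw [hQdef, Sylow.coe_subgroup_smul, Subgroup.mem_pointwise_smul_iff_inv_smul_mem] at hq
    have := ht _ hq
    simpa [MulAut.smul_def, mul_assoc] using this
  obtain ⟨h, hh⟩ := MulAction.exists_smul_eq T (Q.subtype hQ) (P.subtype hP)
  rw [Sylow.smul_subtype hQ h] at hh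
  have h1 : h • Q = P := Sylow.subtype_injective hh
  refine ⟨h, h.2, ?_⟩
  have h2 : ((h : G) * t) • P = P := by
    rw [mul_smul, ← hQdef]
    exact h1
  exact Sylow.smul_eq_iff_mem_normalizer.1 h2

variable (P : Sylow p G) (D : Ext (P : Subgroup G) p)

/-- The subgroup of `G` inducing the trivial action on `⟨z⟩` and on `⟨x, z⟩ / ⟨z⟩`. -/
def stabT (x z : G) : Subgroup G where
  carrier := {g | g * z * g⁻¹ = z ∧ g * x * g⁻¹ * x⁻¹ ∈ zpowers z}
  mul_mem' := by
    rintro a b ⟨ha1, ha2⟩ ⟨hb1, hb2⟩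
    have hfix : ∀ c ∈ zpowers z, a * c * a⁻¹ = c := by
      intro c hc
      obtain ⟨n, rfl⟩ := mem_zpowers_iff.1 hc
      rw [← conj_zpow, ha1]
    refine ⟨?_, ?_⟩
    · calc a * b * z * (a * b)⁻¹ = a * (b * z * b⁻¹) * a⁻¹ := by group
        _ = z := by rw [hb1, ha1]
    · have e : a * b * x * (a * b)⁻¹ * x⁻¹ = (b * x * b⁻¹ * x⁻¹) * (a * x * a⁻¹ * x⁻¹) := by
        have h2 := hfix _ hb2
        calc a * b * x * (a * b)⁻¹ * x⁻¹
            = (a * (b * x * b⁻¹ * x⁻¹) * a⁻¹) * (a * x * a⁻¹ * x⁻¹) := by group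
          _ = _ := by rw [h2]
      rw [e]
      exact mul_mem hb2 ha2
  one_mem' := by
    refine ⟨by simp, ?_⟩
    simp
  inv_mem' := by
    rintro a ⟨ha1, ha2⟩
    have hfix : ∀ c ∈ zpowers z, a⁻¹ * c * a = c := by
      intro c hc
      have h3 : a * c * a⁻¹ = c := by
        obtain ⟨n, rfl⟩ := mem_zpowers_iff.1 hc
        rw [← conj_zpow, ha1]
      calc a⁻¹ * c * a = a⁻¹ * (a * c * a⁻¹) * a := by rw [h3]
        _ = c := by group
    refine ⟨?_, ?_⟩
    · rw [inv_inv]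
      exact hfix z (mem_zpowers z)
    · rw [inv_inv]
      have e : a⁻¹ * x * a * x⁻¹ = (a * x * a⁻¹ * x⁻¹)⁻¹ := by
        have h2 := hfix _ ha2
        calc a⁻¹ * x * a * x⁻¹ = a⁻¹ * x * a * x⁻¹ * 1 := by rw [mul_one]
          _ = (a⁻¹ * (a * x * a⁻¹ * x⁻¹)⁻¹ * a) := by group
          _ = _ := hfix _ (inv_mem ha2)
      rw [e]
      exact inv_mem ha2

variable {P D}

lemma coe_ep {x : (P : Subgroup G)} (a : ZMod p) :
    ((ep x a : (P : Subgroup G)) : G) = ep (x : G) a := by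
  simp [ep]

lemma coe_z_pow : ((D.z : (P : Subgroup G)) : G) ^ p = 1 := by
  have := D.z_pow
  exact_mod_cast congrArg (Subtype.val) this

lemma coe_pow_p (D : Ext (P : Subgroup G) p) (x : (P : Subgroup G)) : (x : G) ^ p = 1 := by
  have := D.exp x
  exact_mod_cast congrArg (Subtype.val) this

lemma coe_z_comm (x : (P : Subgroup G)) : (x : G) * (D.z : G) = (D.z : G) * x := by
  have := D.z_comm x
  exact_mod_cast congrArg (Subtype.val) this

/-- Conjugation inside `P`. -/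
lemma coe_conj_comm (y r : (P : Subgroup G)) :
    (y : G) * r * (y : G)⁻¹ = ep (D.z : G) (D.pi y 0 * D.pi r 1 - D.pi y 1 * D.pi r 0) * r := by
  have h := Ext.conj_eq_comm_mul y r
  rw [D.comm_eq] at h
  have := congrArg (Subtype.val) h
  simpa [coe_ep] using this

lemma exists_conj_eq {r : (P : Subgroup G)} (hr : D.pi r ≠ 0) (s : ZMod p) :
    ∃ y : (P : Subgroup G), (y : G) * r * (y : G)⁻¹ = ep (D.z : G) s * r := by
  obtain ⟨y, hy⟩ := D.exists_comm_eq hr s
  refine ⟨y, ?_⟩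
  have h := Ext.conj_eq_comm_mul y r
  rw [hy] at h
  have := congrArg (Subtype.val) h
  simpa [coe_ep] using this

/-- Adjusting by an element centralizing `x` and `z` to normalize `P`. -/
theorem good_adjust {x : (P : Subgroup G)} (hx : D.pi x ≠ 0) {t : G} {a b : ZMod p} (hab : a * b = 1)
    (h1 : t * (x : G) * t⁻¹ = ep (x : G) a) (h2 : t * (D.z : G) * t⁻¹ = ep (D.z : G) b) :
    ∃ t' ∈ normalizer ((P : Subgroup G) : Set G), t' * (x : G) * t'⁻¹ = ep (x : G) a ∧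
      t' * (D.z : G) * t'⁻¹ = ep (D.z : G) b := by
  set zG : G := (D.z : G) with hzG
  set xG : G := (x : G) with hxG
  have hzp : zG ^ p = 1 := coe_z_pow
  have hxp : xG ^ p = 1 := coe_pow_p D x
  -- the inverse of `t`
  have hi1 : t⁻¹ * xG * t = ep xG b := by
    have e : t * ep xG b * t⁻¹ = xG := by
      rw [ep_conj, h1, ← ep_mul hxp, hab, ep_one hxp]
    calc t⁻¹ * xG * t = t⁻¹ * (t * ep xG b * t⁻¹) * t := by rw [e]
      _ = _ := by group
  have hi2 : t⁻¹ * zG * t = ep zG a := by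
    have e : t * ep zG a * t⁻¹ = zG := by
      rw [ep_conj, h2, ← ep_mul hzp, mul_comm b a, hab, ep_one hzp]
    calc t⁻¹ * zG * t = t⁻¹ * (t * ep zG a * t⁻¹) * t := by rw [e]
      _ = _ := by group
  have hP : (P : Subgroup G) ≤ stabT xG zG := by
    intro y hy
    refine ⟨?_, ?_⟩
    · have := coe_z_comm (D := D) (⟨y, hy⟩ : (P : Subgroup G))
      show y * zG * y⁻¹ = zG
      rw [show y * zG = zG * y from this]
      group
    · have := coe_conj_comm (D := D) (⟨y, hy⟩ : (P : Subgroup G)) x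
      show y * xG * y⁻¹ * xG⁻¹ ∈ _
      have e : y * xG * y⁻¹ = _ := this
      rw [e, mul_inv_cancel_right]
      exact ep_mem_zpowers _ _
  have ht : ∀ y ∈ (P : Subgroup G), t * y * t⁻¹ ∈ stabT xG zG := by
    intro y hy
    refine ⟨?_, ?_⟩
    · have h3 : y * ep zG a * y⁻¹ = ep zG a := by
        rw [ep_conj]
        have := coe_z_comm (D := D) (⟨y, hy⟩ : (P : Subgroup G))
        have h4 : y * zG * y⁻¹ = zG := by
          rw [show y * zG = zG * y from this]
          group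
        rw [h4]
      calc t * y * t⁻¹ * zG * (t * y * t⁻¹)⁻¹ = t * (y * (t⁻¹ * zG * t) * y⁻¹) * t⁻¹ := by group
        _ = t * ep zG a * t⁻¹ := by rw [hi2, h3]
        _ = t * (t⁻¹ * zG * t) * t⁻¹ := by rw [hi2]
        _ = zG := by group
    · have hr : ep xG b ∈ (P : Subgroup G) := by
        rw [← coe_ep]
        exact (ep x b).2
      have h3 := coe_conj_comm (D := D) (⟨y, hy⟩ : (P : Subgroup G)) (ep x b)
      rw [coe_ep] at h3
      have h5 : t * ep xG b * t⁻¹ = xG := by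
        rw [← hi1]
        group
      generalize (D.pi (⟨y, hy⟩ : (P : Subgroup G)) 0 * D.pi (ep x b) 1 -
        D.pi (⟨y, hy⟩ : (P : Subgroup G)) 1 * D.pi (ep x b) 0) = s at h3
      have h6 : y * ep xG b * y⁻¹ = ep zG s * ep xG b := h3
      have e : t * y * t⁻¹ * xG * (t * y * t⁻¹)⁻¹ * xG⁻¹ = t * ep zG s * t⁻¹ := by
        calc t * y * t⁻¹ * xG * (t * y * t⁻¹)⁻¹ * xG⁻¹
            = t * (y * (t⁻¹ * xG * t) * y⁻¹) * t⁻¹ * xG⁻¹ := by group
          _ = t * (ep zG s * ep xG b) * t⁻¹ * xG⁻¹ := by rw [hi1, h6]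
          _ = (t * ep zG s * t⁻¹) * (t * ep xG b * t⁻¹) * xG⁻¹ := by group
          _ = _ := by rw [h5]; group
      rw [e, ep_conj, h2, ← ep_mul hzp]
      exact ep_mem_zpowers _ _
  obtain ⟨h, hhT, hhN⟩ := exists_mem_normalizer hP ht
  obtain ⟨hh1, hh2⟩ := hhT
  obtain ⟨n, hn⟩ := mem_zpowers_iff.1 hh2
  -- `h * x * h⁻¹ = z ^ n * x`
  have hzs : ∃ s : ZMod p, h * xG * h⁻¹ = ep zG s * xG := by
    refine ⟨(n : ZMod p), ?_⟩
    have e1 : h * xG * h⁻¹ = zG ^ n * xG := by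
      rw [hn]; group
    rw [e1]
    congr 1
    obtain ⟨m, rfl | rfl⟩ := n.eq_nat_or_neg
    · simp only [zpow_natCast, Int.cast_natCast, ep_natCast hzp]
    · simp only [_root_.zpow_neg, zpow_natCast, Int.cast_neg, Int.cast_natCast, ep_neg hzp, ep_natCast hzp]
  obtain ⟨s, hs⟩ := hzs
  obtain ⟨y, hy⟩ := exists_conj_eq (D := D) hx s
  have hyN : (y : G) ∈ normalizer ((P : Subgroup G) : Set G) := le_normalizer y.2
  have hyz : (y : G)⁻¹ * zG * (y : G) = zG := by
    have := coe_z_comm (D := D) y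
    calc (y : G)⁻¹ * zG * (y : G) = (y : G)⁻¹ * (zG * (y : G)) := by group
      _ = (y : G)⁻¹ * ((y : G) * zG) := congrArg _ this.symm
      _ = _ := by group
  have hyx : (y : G)⁻¹ * (ep zG s * xG) * (y : G) = xG := by
    have e : ep zG s * xG = (y : G) * xG * (y : G)⁻¹ := hy.symm
    rw [e]
    group
  refine ⟨(y : G)⁻¹ * (h * t), mul_mem (inv_mem hyN) hhN, ?_, ?_⟩
  · calc (y : G)⁻¹ * (h * t) * xG * ((y : G)⁻¹ * (h * t))⁻¹
        = ((y : G)⁻¹ * h) * (t * xG * t⁻¹) * ((y : G)⁻¹ * h)⁻¹ := by group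
      _ = ((y : G)⁻¹ * h) * ep xG a * ((y : G)⁻¹ * h)⁻¹ := by rw [h1]
      _ = ep (((y : G)⁻¹ * h) * xG * ((y : G)⁻¹ * h)⁻¹) a := by rw [ep_conj]
      _ = ep ((y : G)⁻¹ * (h * xG * h⁻¹) * (y : G)) a := by
        congr 1
        group
      _ = ep xG a := by rw [hs, hyx]
  · calc (y : G)⁻¹ * (h * t) * zG * ((y : G)⁻¹ * (h * t))⁻¹
        = ((y : G)⁻¹ * h) * (t * zG * t⁻¹) * ((y : G)⁻¹ * h)⁻¹ := by group
      _ = ((y : G)⁻¹ * h) * ep zG b * ((y : G)⁻¹ * h)⁻¹ := by rw [h2]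
      _ = ep (((y : G)⁻¹ * h) * zG * ((y : G)⁻¹ * h)⁻¹) b := by rw [ep_conj]
      _ = ep ((y : G)⁻¹ * (h * zG * h⁻¹) * (y : G)) b := by
        congr 1
        group
      _ = ep zG b := by rw [hh1, hyz]

end Adjust

end Cfsg.Agent.Lib.Ruiz.Good
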